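/-
P12: simple groups with fewer than `p ^ 2` Sylow `p`-subgroups.  Interface (see plans/P12.md).
-/
import Cfsg.Agent.H7.PClB
import Cfsg.Agent.L.BSW1

set_option autoImplicit false

namespace Cfsg.Agent.P12

open Subgroup Cfsg Cfsg.Agent Cfsg.Agent.FT Cfsg.Agent.P1

universe u

/-- The standing hypothesis: `G` simple, `P` a Sylow subgroup of prime order `p` with
`1 + r p < p ^ 2` conjugates, `e = |N(P) : C(P)| ≥ 2`, `t e = p - 1`. -/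
structure Hyp {G : Type u} [Group G] (P : Subgroup G) (p r e t : ℕ) : Prop where
  hp : p.Prime
  simple : IsSimpleGroup G
  hP : 𝐨(P) = p
  syl : ¬ p ∣ P.index
  hn : (𝐍(P)).index = 1 + r * p
  r1 : 1 ≤ r
  rp : r < p
  he : (𝐂(P)).relIndex 𝐍(P) = e
  e2 : 2 ≤ e
  ht : t * e + 1 = p

/-- Chapter LAT (Brauer's `±1`): a lattice argument over `ℤ_[p]`. -/
def LatStmt : Prop := ∀ (G : Type u) [Group G] [Finite G] (p : ℕ) (P : Subgroup G),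
  p.Prime → 𝐨(P) = p → ¬ p ∣ P.index → ∀ S : Finset (G → ℂ), S ⊆ B0 p ⊤ → S.Nonempty →
  (∀ g, ∃ z : ℤ, ∑ χ ∈ S, χ 1 * χ g = z) →
  ∃ (m : (G → ℂ) → ℕ) (c : ℤ), (∃ χ ∈ S, m χ ≠ 0) ∧ (c = 0 ∨ c = 1 ∨ c = -1) ∧
    ∀ y ∈ P, y ≠ 1 → ∑ χ ∈ S, (m χ : ℂ) * χ y = c

/-- Chapter GEO: `C(P)` is a TI-subgroup acting semiregularly on the other Sylow subgroups. -/
def GeoStmt : Prop := ∀ (G : Type u) [Group G] [Finite G] (P : Subgroup G) (p r e t : ℕ),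
  Hyp P p r e t → ∀ g, g ∉ 𝐍(P) → ∀ c ∈ 𝐂(P), g⁻¹ * c * g ∈ 𝐍(P) → c = 1

/-- The 3-local data of the case `p = 13`. -/
def L33 (G : Type u) [Group G] : Prop := Nat.card G = 5616 ∧ ∃ z : G, orderOf z = 3 ∧
  𝐨(𝐂[z]) = 54 ∧ (∀ h : G, h ≠ 1 → (∃ k, h ^ 3 ^ k = 1) →
    IsConj z h ∨ (orderOf h = 3 ∧ 𝐨(𝐂[h]) = 9)) ∧
  ∀ R : Subgroup G, 𝐨(R) = 27 → {h | h ∈ R ∧ IsConj z h}.ncard = 14

/-- The conclusion of the main theorem. -/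
def Out {G : Type u} [Group G] (P : Subgroup G) (p r e t : ℕ) : Prop :=
  𝐂(P) = P ∧ ((r = 1 ∧ t = 2) ∨ (e = 2 ∧ 2 * r + 3 = p ∧ L.EAC G) ∨
    (e = 2 ∧ 2 * r = p + 3 ∧ 3 < p ∧ L.EAC G) ∨ (p = 13 ∧ r = 11 ∧ e = 3 ∧ L33 G))

/-- The main theorem. -/
def MainStmt : Prop := ∀ (G : Type u) [Group G] [Finite G] (P : Subgroup G) (p r e t : ℕ),
  Hyp P p r e t → Out P p r e t

/-- Chapter REC: recognition of `PSL(3,3)`. -/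
def RecStmt : Prop := ∀ (G : Type u) [Group G] [Finite G] (P : Subgroup G) (t : ℕ),
  Hyp P 13 11 3 t → 𝐂(P) = P → L33 G →
  Nonempty (G ≃* Matrix.ProjectiveSpecialLinearGroup (Fin 3) (ZMod 3))

end Cfsg.Agent.P12
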