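/-
P12, chapter FIN, part 1: the case of `p + 1` Sylow subgroups.
-/
import Cfsg.Agent.P12.Defs
import Cfsg.Agent.P10.K3
import Cfsg.Agent.P3.Final
import Cfsg.Agent.H7.CA

set_option autoImplicit false
set_option linter.unusedSectionVars false

namespace Cfsg.Agent.P12

open Subgroup Cfsg Cfsg.Agent Cfsg.Agent.FT MulAction
open scoped IsMulCommutative commutatorElement

universe u

variable {G : Type u} [Group G] [Finite G]

theorem perfect_of_simple (hs : IsSimpleGroup G) (hna : ¬ IsMulCommutative G) (x : G) :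
    x ∈ commutator G := by
  rcases hs.eq_bot_or_eq_top_of_normal (commutator G) inferInstance with h | h
  · rw [_root_.commutator_def, comm_eq_bot_iff] at h
    exact absurd ⟨⟨fun a b => h (mem_top b) a trivial⟩⟩ hna
  · rw [h]; trivial

theorem eq_one_of_syl {p : ℕ} (hp : p.Prime) (hs : IsSimpleGroup G) (hna : ¬ IsMulCommutative G)
    {S : Subgroup G} (hS : IsSyl p S ⊤) (hc : IsMulCommutative S) {x : G} (hx : x ∈ S)
    (hN : ∀ n ∈ 𝐍(S), Commute x n) : x = 1 := by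
  have := Fact.mk hp
  obtain ⟨T, rfl⟩ := hS.exists_sylow_top hp
  exact H7.CA.eq_one_of_transfer T hx (perfect_of_simple hs hna x) hN

theorem comm_mem_cent {P : Subgroup G} (hP : IsCyclic P) {x y : G} (hx : x ∈ 𝐍(P))
    (hy : y ∈ 𝐍(P)) : x⁻¹ * y⁻¹ * x * y ∈ 𝐂(P) := by
  obtain ⟨u, rfl⟩ := isCyclic_iff_zpowers.1 hP
  obtain ⟨i, hi⟩ := (mem_normalizer_iff.1 hx u).1 (mem_zpowers u)
  obtain ⟨j, hj⟩ := (mem_normalizer_iff.1 hy u).1 (mem_zpowers u)
  simp only at hi hj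
  have h1 : x * y * u * (x * y)⁻¹ = y * x * u * (y * x)⁻¹ := by
    calc x * y * u * (x * y)⁻¹ = x * (y * u * y⁻¹) * x⁻¹ := by group
      _ = u ^ (i * j) := by rw [← hj, ← conj_zpow, ← hi, zpow_mul]
      _ = y * (x * u * x⁻¹) * y⁻¹ := by rw [← hi, ← conj_zpow, ← hj, ← zpow_mul, mul_comm]
      _ = _ := by group
  rw [cent_zpowers, mem_cent1_iff_conj]
  calc _ = (y * x)⁻¹ * (x * y * u * (x * y)⁻¹) * (y * x) := by group
    _ = u := by rw [h1]; group

section Zass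

variable {Ω : Type*} [MulAction G Ω] [Finite Ω] {P : Subgroup G} {o : Ω} {e : ℕ}

/-- The action on the `p + 1` conjugates of `P`. -/
structure Zas (P : Subgroup G) (o : Ω) (e : ℕ) : Prop where
  hP : 𝐨(P) = 2 * e + 1
  cyc : IsCyclic P
  hC : ∀ u ∈ P, u ≠ 1 → 𝐂[u] = P
  hN : 𝐨(𝐍(P)) = e * (2 * e + 1)
  st : stabilizer G o = 𝐍(P)
  tr : ∀ a, ∃ g : G, g • o = a
  hΩ : Nat.card Ω = 2 * e + 2

namespace Zas

variable (h : Zas P o e)
include h

theorem mem_iff {g : G} : g ∈ 𝐍(P) ↔ g • o = o := by rw [← h.st, mem_stabilizer_iff]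

theorem free {u : G} (hu : u ∈ P) {a : Ω} (ha : a ≠ o) (e1 : u • a = a) : u = 1 := by
  by_contra h1
  obtain ⟨g, rfl⟩ := h.tr a
  have := P3.mem_norm_of_conj_mem h.hC (P3.relIndex_norm h.hP h.hN) (g := g⁻¹) hu h1
    (by rw [h.mem_iff, inv_inv, mul_smul, mul_smul, e1, inv_smul_smul])
  exact ha (h.mem_iff.1 (by simpa using inv_mem this))

theorem ncard_ne (a : Ω) : {b | b ≠ a}.ncard = 2 * e + 1 := by
  have := Set.ncard_add_ncard_compl ({a} : Set Ω)
  rw [Set.ncard_singleton, h.hΩ] at this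
  change ({a}ᶜ : Set Ω).ncard = _
  omega

theorem trP {a b : Ω} (ha : a ≠ o) (hb : b ≠ o) : ∃ u ∈ P, u • a = b := by
  have h1 := P10K.index_inf_stab P a (S := {y | ∃ k ∈ P, k • a = y}) fun _ => Iff.rfl
  rw [show P ⊓ stabilizer G a = ⊥ from eq_bot_iff.2 fun u hu => h.free hu.1 ha hu.2, index_bot,
    ← P.index_mul_card, h.hP] at h1
  have h2 : {y | ∃ k ∈ P, k • a = y} = {b | b ≠ o} := Set.eq_of_subset_of_ncard_le (by
    rintro _ ⟨k, hk, rfl⟩ e1
    exact ha (by rw [← inv_smul_smul k a, e1, h.mem_iff.1 (inv_mem (le_normalizer hk))]))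
    (by rw [h.ncard_ne, Nat.eq_of_mul_eq_mul_left (Nat.pos_of_ne_zero P.index_ne_zero_of_finite) h1])
  exact (h2 ▸ hb : b ∈ {y | ∃ k ∈ P, k • a = y})

theorem two {a b c d : Ω} (hab : a ≠ b) (hcd : c ≠ d) : ∃ g : G, g • a = c ∧ g • b = d := by
  obtain ⟨x, rfl⟩ := h.tr a
  obtain ⟨y, rfl⟩ := h.tr c
  obtain ⟨u, hu, e1⟩ := h.trP (a := x⁻¹ • b) (b := y⁻¹ • d)
    (fun e1 => hab (by rw [← e1, smul_inv_smul])) (fun e1 => hcd (by rw [← e1, smul_inv_smul]))
  exact ⟨y * u * x⁻¹, by rw [mul_smul, mul_smul, inv_smul_smul, h.mem_iff.1 (le_normalizer hu)],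
    by rw [mul_smul, mul_smul, e1, smul_inv_smul]⟩

theorem three {g : G} {a b c : Ω} (hab : a ≠ b) (hac : a ≠ c) (hbc : b ≠ c) (ha : g • a = a)
    (hb : g • b = b) (hc : g • c = c) : g = 1 := by
  obtain ⟨x, rfl⟩ := h.tr a
  have b0 : x⁻¹ • b ≠ o := fun e1 => hab (by rw [← e1, smul_inv_smul])
  obtain ⟨u, hu, e1⟩ := h.trP (b := x⁻¹ • c) b0 (fun e1 => hac (by rw [← e1, smul_inv_smul]))
  have u1 : u ≠ 1 := by
    rintro rfl
    exact hbc (MulAction.injective x⁻¹ ((one_smul _ _).symm.trans e1))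
  set k := x⁻¹ * g * x with hk
  have k0 : k ∈ 𝐍(P) := by rw [h.mem_iff, hk, mul_smul, mul_smul, ha, inv_smul_smul]
  have k1 : k • x⁻¹ • b = x⁻¹ • b := by rw [hk, mul_smul, mul_smul, smul_inv_smul, hb]
  have k2 : k • x⁻¹ • c = x⁻¹ • c := by rw [hk, mul_smul, mul_smul, smul_inv_smul, hc]
  have k3 : u⁻¹ * (k * u * k⁻¹) = 1 := h.free
    (mul_mem (inv_mem hu) ((mem_normalizer_iff.1 k0 u).1 hu)) b0 (by
      rw [mul_smul, mul_smul, mul_smul, inv_smul_eq_iff.2 k1.symm, e1, k2, ← e1, inv_smul_smul])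
  have k4 : k = 1 := h.free (h.hC u hu u1 ▸ mem_cent1_iff_conj.2 (inv_mul_eq_one.1 k3).symm) b0 k1
  simpa [hk, mul_eq_one_iff_eq_inv] using k4

theorem comm {b : Ω} (hb : b ≠ o) {x y : G} (hx : x ∈ stabilizer G o ⊓ stabilizer G b)
    (hy : y ∈ stabilizer G o ⊓ stabilizer G b) (he : 0 < e) : x * y = y * x := by
  obtain ⟨⟨u, hu⟩, u1⟩ := ne_bot_iff_exists_ne_one.1 (show P ≠ ⊥ by
    rintro rfl; have := h.hP; rw [card_bot] at this; omega)
  have h1 := comm_mem_cent h.cyc (h.st ▸ hx.1) (h.st ▸ hy.1)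
  have h2 := h.free (h.hC u hu (fun e1 => u1 (Subtype.ext e1)) ▸ cent_le_cent1 hu h1) hb
    (show _ ∈ stabilizer G b from mul_mem (mul_mem (mul_mem (inv_mem (mem_inf.1 hx).2)
      (inv_mem (mem_inf.1 hy).2)) (mem_inf.1 hx).2) (mem_inf.1 hy).2)
  calc x * y = y * x * (x⁻¹ * y⁻¹ * x * y) := by group
    _ = _ := by rw [h2, mul_one]

theorem index_N : (stabilizer G o).index = 2 * e + 2 := by
  have h1 := P10K.index_inf_stab (⊤ : Subgroup G) o (S := Set.univ) fun a =>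
    ⟨fun _ => by obtain ⟨g, hg⟩ := h.tr a; exact ⟨g, trivial, hg⟩, fun _ => trivial⟩
  rwa [top_inf_eq, index_top, one_mul, Set.ncard_univ, h.hΩ] at h1

theorem card_G : Nat.card G = e * (2 * e + 1) * (2 * e + 2) := by
  rw [← (stabilizer G o).card_mul_index, h.index_N, h.st, h.hN]

theorem index_E {b : Ω} (hb : b ≠ o) :
    (stabilizer G o ⊓ stabilizer G b).index = (2 * e + 2) * (2 * e + 1) := by
  rw [P10K.index_inf_stab (stabilizer G o) b (S := {b | b ≠ o}) fun a =>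
    ⟨fun ha => h.two hb.symm (Ne.symm ha), by
      rintro ⟨k, hk, rfl⟩ e1
      exact hb (MulAction.injective k (e1.trans hk.symm))⟩, h.index_N, h.ncard_ne]

theorem card_E {b : Ω} (hb : b ≠ o) : 𝐨(stabilizer G o ⊓ stabilizer G b) = e := by
  have h1 := (stabilizer G o ⊓ stabilizer G b).card_mul_index
  rw [h.index_E hb, h.card_G, mul_assoc, mul_comm (2 * e + 1)] at h1
  exact Nat.eq_of_mul_eq_mul_right (by positivity) h1

theorem exists_odd (hs : IsSimpleGroup G) (hna : ¬ IsMulCommutative G) (he : Odd e) :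
    ∃ τ : G, τ * τ = 1 ∧ τ • o ≠ o ∧
      ∀ x ∈ stabilizer G o ⊓ stabilizer G (τ • o), τ * x * τ = x⁻¹ := by
  have : Fact (Nat.Prime 2) := ⟨Nat.prime_two⟩
  obtain ⟨τ, hτ⟩ := exists_prime_orderOf_dvd_card' (G := G) 2
    (by rw [h.card_G]; exact Dvd.dvd.mul_left ⟨e + 1, by ring⟩ _)
  have t2 : τ * τ = 1 := by rw [← sq, ← hτ, pow_orderOf_eq_one]
  have ti : τ⁻¹ = τ := inv_eq_of_mul_eq_one_right t2
  have t0 : τ • o ≠ o := fun e1 => by
    have := orderOf_dvd_card_of_mem (h.mem_iff.2 e1)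
    rw [hτ, h.hN] at this
    exact (he.mul ⟨e, rfl⟩).not_two_dvd_nat this
  have tt : τ • τ • o = o := by rw [← mul_smul, t2, one_smul]
  refine ⟨τ, t2, t0, fun x hx => ?_⟩
  set E := stabilizer G o ⊓ stabilizer G (τ • o) with hE
  have hc : ∀ a ∈ E, ∀ b ∈ E, a * b = b * a := fun a ha b hb => h.comm t0 ha hb he.pos
  have hx' : τ * x * τ ∈ E :=
    mem_inf.2 ⟨by rw [mem_stabilizer_iff, mul_smul, mul_smul, hx.2, tt],
      by rw [mem_stabilizer_iff, mul_smul, mul_smul, tt, hx.1]⟩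
  rw [eq_inv_iff_mul_eq_one]
  by_contra h1
  obtain ⟨k, hk⟩ := H7.CA.exists_pow_prime h1
  have c1 : Commute (τ * x * τ * x) τ := by
    calc τ * x * τ * x * τ = τ * (x * (τ * x * τ)) := by group
      _ = _ := by rw [hc x hx _ hx']
  set y := (τ * x * τ * x) ^ k with hy
  have y1 : y ∈ E := pow_mem (mul_mem hx' hx) k
  have y0 : y ≠ 1 := fun e1 => by rw [e1, orderOf_one] at hk; exact Nat.not_prime_one hk
  obtain ⟨S, hS, hyS⟩ := exists_isSyl_ge hk (isPGroup_of_card_prime (Nat.card_zpowers y))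
    (zpowers_le.2 y1)
  have d1 : orderOf y ∣ e := h.card_E t0 ▸ orderOf_dvd_card_of_mem y1
  refine y0 (eq_one_of_syl hk hs hna (hS.trans hk le_top ?_)
    (isMulComm_iff_le_cent.2 fun a ha => mem_cent.2 fun b hb => hc b (hS.1 hb) a (hS.1 ha))
    (hyS (mem_zpowers y)) fun n hn => ?_)
  · rw [relIndex_top_right, h.index_E t0]
    intro d2
    rcases (Nat.Prime.dvd_mul hk).1 d2 with d3 | d3
    · have d4 := (Nat.prime_dvd_prime_iff_eq hk Nat.prime_two).1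
        ((Nat.dvd_add_right (d1.mul_left 2)).1 d3)
      exact he.not_two_dvd_nat (d4 ▸ d1)
    · exact hk.not_dvd_one ((Nat.dvd_add_right (d1.mul_left 2)).1 d3)
  · have a1 : n⁻¹ * y * n ∈ E := hS.1 ((mem_normalizer_iff''.1 hn y).1 (hyS (mem_zpowers y)))
    have a2 : ∀ c : Ω, (n⁻¹ * y * n) • c = c → n • c = o ∨ n • c = τ • o := fun c e1 => by
      by_contra hc'
      push Not at hc'
      refine y0 (h.three t0.symm hc'.1.symm hc'.2.symm y1.1 y1.2 ?_)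
      rwa [mul_smul, mul_smul, inv_smul_eq_iff] at e1
    have a3 : n • o ≠ n • τ • o := (MulAction.injective n).ne t0.symm
    rcases a2 _ a1.1 with b1 | b1 <;> rcases a2 _ a1.2 with b2 | b2
    · exact absurd (b1.trans b2.symm) a3
    · exact hc y y1 n ⟨b1, b2⟩
    · have b3 : τ * n ∈ E := mem_inf.2 ⟨by rw [mem_stabilizer_iff, mul_smul, b1, tt],
        by rw [mem_stabilizer_iff, mul_smul, b2]⟩
      have := (c1.pow_left k).mul_right (hc y y1 _ b3)
      rwa [← mul_assoc, t2, one_mul] at this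
    · exact absurd (b1.trans b2.symm) a3

theorem exists_even (he0 : 0 < e) (he : 2 ∣ e) :
    ∃ τ : G, τ * τ = 1 ∧ τ • o ≠ o ∧
      ∀ x ∈ stabilizer G o ⊓ stabilizer G (τ • o), τ * x * τ = x⁻¹ := by
  obtain ⟨b, hb⟩ : {b | b ≠ o}.Nonempty := by rw [← Set.ncard_pos, h.ncard_ne]; omega
  set I : Set G := {z | z ≠ 1 ∧ z * z = 1 ∧ ∃ a c : Ω, a ≠ c ∧ z • a = a ∧ z • c = c}
  set T : Set (Ω × Ω) := {q | q.1 ≠ q.2}
  have hI : ∀ g z : G, MulAut.conj g • z ∈ I ↔ z ∈ I := by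
    have key : ∀ g z : G, z ∈ I → g * z * g⁻¹ ∈ I := by
      rintro g z ⟨h1, h2, a, c, h3, h4, h5⟩
      exact ⟨by simpa using h1, by rw [conj_mul, h2]; simp, g • a, g • c,
        (MulAction.injective g).ne h3, by rw [mul_smul, mul_smul, inv_smul_smul, h4],
        by rw [mul_smul, mul_smul, inv_smul_smul, h5]⟩
    exact fun g z => ⟨fun h1 => by simpa [mul_assoc] using key g⁻¹ _ h1, key g z⟩
  have hsm : ∀ (g z : G) (a c : Ω), (MulAut.conj g • z) • g • a = g • c ↔ z • a = c := by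
    intro g z a c
    change (g * z * g⁻¹) • g • a = g • c ↔ _
    rw [mul_smul, mul_smul, inv_smul_smul, smul_left_cancel_iff]
  have hfix : ∀ z ∈ I, ∃ a c : Ω, a ≠ c ∧ ∀ d, z • d = d ↔ d = a ∨ d = c := by
    rintro z ⟨h1, -, a, c, h3, h4, h5⟩
    refine ⟨a, c, h3, fun d => ⟨fun h6 => ?_, by rintro (rfl | rfl) <;> assumption⟩⟩
    by_contra hc
    push Not at hc
    exact h1 (h.three h3 hc.1.symm hc.2.symm h4 h5 h6)
  have c1 := P10K.dcount I T (fun z q => z • q.1 = q.1 ∧ z • q.2 = q.2) (m := 2)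
    (n := {z | z ∈ I ∧ z • o = o ∧ z • b = b}.ncard)
    (fun z hz => by
      obtain ⟨a, c, h1, h2⟩ := hfix z hz
      rw [← Set.ncard_pair (show (a, c) ≠ (c, a) by simp [h1])]
      congr 1
      ext ⟨s, t⟩
      simp only [T, Set.mem_ofPred_eq, h2, Set.mem_insert_iff, Prod.mk.injEq,
        Set.mem_singleton_iff]
      constructor
      · rintro ⟨h3, rfl | rfl, rfl | rfl⟩ <;> simp_all
      · rintro (⟨rfl, rfl⟩ | ⟨rfl, rfl⟩) <;> simp [h1, h1.symm])
    (fun q hq => by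
      obtain ⟨g, g1, g2⟩ := h.two (Ne.symm hb) hq
      refine (P10K.ncard_eq_of_smul (MulAut.conj g) fun z => ?_).symm
      simp only [Set.mem_ofPred_eq, hI, ← g1, ← g2, hsm])
  have c2 := P10K.dcount I T (fun z q => z • q.1 = q.2) (m := 2 * e)
    (n := {z | z ∈ I ∧ z • o = b}.ncard)
    (fun z hz => by
      obtain ⟨a, c, h1, h2⟩ := hfix z hz
      have e1 : {q | q ∈ T ∧ z • q.1 = q.2} = (fun d => (d, z • d)) '' ({a, c}ᶜ : Set Ω) := by
        ext ⟨s, t⟩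
        simp only [T, Set.mem_ofPred_eq, Set.mem_image, Set.mem_compl_iff, Set.mem_insert_iff,
          Set.mem_singleton_iff, ← h2, Prod.mk.injEq]
        exact ⟨by rintro ⟨h3, rfl⟩; exact ⟨s, Ne.symm h3, rfl, rfl⟩,
          by rintro ⟨_, h3, rfl, rfl⟩; exact ⟨Ne.symm h3, rfl⟩⟩
      have e2 := Set.ncard_add_ncard_compl ({a, c} : Set Ω)
      rw [Set.ncard_pair h1, h.hΩ] at e2
      rw [e1, Set.ncard_image_of_injective _ fun s t e => congrArg Prod.fst e]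
      omega)
    (fun q hq => by
      obtain ⟨g, g1, g2⟩ := h.two (Ne.symm hb) hq
      refine (P10K.ncard_eq_of_smul (MulAut.conj g) fun z => ?_).symm
      simp only [Set.mem_ofPred_eq, hI, ← g1, ← g2, hsm])
  obtain ⟨z, hz, hz2⟩ := exists_mem_orderOf_eq_prime Nat.prime_two (h.card_E hb ▸ he)
  have c3 : 0 < {z | z ∈ I ∧ z • o = o ∧ z • b = b}.ncard := (Set.ncard_pos).2
    ⟨z, ⟨by rintro rfl; simp at hz2, by rw [← sq, ← hz2, pow_orderOf_eq_one], o, b, Ne.symm hb,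
      hz.1, hz.2⟩, hz.1, hz.2⟩
  have c4 : 0 < T.ncard := (Set.ncard_pos).2 ⟨(o, b), Ne.symm hb⟩
  have c5 : e ≤ {z | z ∈ I ∧ z • o = b}.ncard := by
    rw [← mul_assoc, c1, mul_assoc] at c2
    rw [← Nat.eq_of_mul_eq_mul_left c4 c2]
    exact Nat.le_mul_of_pos_left e c3
  obtain ⟨τ, hτ, t1⟩ : {z | z ∈ I ∧ z • o = b}.Nonempty := (Set.ncard_pos).1 (by omega)
  have hb' : ∀ w ∈ I, w • o = b → w • b = o := fun w hw e1 => by
    rw [← e1, ← mul_smul, hw.2.1, one_smul]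
  have c6 : {z | z ∈ I ∧ z • o = b} = (τ * ·) '' (stabilizer G o ⊓ stabilizer G b : Subgroup G) :=
    Set.eq_of_subset_of_ncard_le (fun w hw => ⟨τ * w,
      mem_inf.2 ⟨by rw [mem_stabilizer_iff, mul_smul, hw.2, hb' τ hτ t1],
        by rw [mem_stabilizer_iff, mul_smul, hb' w hw.1 hw.2, t1]⟩,
      by simp only [← mul_assoc, hτ.2.1, one_mul]⟩)
      (by rw [Set.ncard_image_of_injective _ (mul_right_injective τ)]; exact (h.card_E hb).trans_le c5)
  refine ⟨τ, hτ.2.1, t1 ▸ hb, fun x hx => ?_⟩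
  have : τ * x ∈ {z | z ∈ I ∧ z • o = b} := c6 ▸ ⟨x, t1 ▸ hx, rfl⟩
  rw [eq_inv_iff_mul_eq_one, mul_assoc]
  exact this.1.2.1

theorem recog (hs : IsSimpleGroup G) (hna : ¬ IsMulCommutative G) (he : 0 < e) :
    ∃ (F : Type) (_ : Field F) (_ : Fintype F), Fintype.card F = Nat.card P ∧
      Nonempty (G ≃* Matrix.ProjectiveSpecialLinearGroup (Fin 2) F) := by
  obtain ⟨τ, t2, t0, hinv⟩ : ∃ τ : G, τ * τ = 1 ∧ τ • o ≠ o ∧
      ∀ x ∈ stabilizer G o ⊓ stabilizer G (τ • o), τ * x * τ = x⁻¹ := by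
    rcases Nat.even_or_odd e with h1 | h1
    · exact h.exists_even he h1.two_dvd
    · exact h.exists_odd hs hna h1
  refine P3.recog_of_ti he h.hP h.hC h.hN h.card_G t2 (fun c => t0 (h.mem_iff.1 c))
    fun x hx => hinv x ⟨h.st ▸ hx.1, ?_⟩
  have := h.mem_iff.1 (mem_conj.1 hx.2)
  rwa [mul_smul, mul_smul, inv_smul_eq_iff] at this

end Zas

end Zass

theorem Hyp.not_comm {P : Subgroup G} {p r e t : ℕ} (h : Hyp P p r e t) :
    ¬ IsMulCommutative G := fun hc => by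
  have h1 := h.hn
  have h2 := h.r1
  have h3 := h.hp.pos
  rw [normalizer_eq_top, index_top] at h1
  have := Nat.mul_pos h2 h3
  omega

theorem Hyp.card_N {P : Subgroup G} {p r e t : ℕ} (h : Hyp P p r e t) (hC : 𝐂(P) = P) :
    𝐨(𝐍(P)) = e * p := by
  rw [← H1.card_mul_relIndex (cent_le_norm P), h.he, hC, h.hP, mul_comm]

theorem Hyp.card_G {P : Subgroup G} {p r e t : ℕ} (h : Hyp P p r e t) (hC : 𝐂(P) = P) :
    Nat.card G = e * p * (1 + r * p) := by
  rw [← (𝐍(P)).card_mul_index, h.card_N hC, h.hn]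

theorem Hyp.psl2 {P : Subgroup G} {p e : ℕ} (h : Hyp P p 1 e 2) (hC : 𝐂(P) = P) :
    ∃ (F : Type) (_ : Field F) (_ : Fintype F), Fintype.card F = p ∧
      Nonempty (G ≃* Matrix.ProjectiveSpecialLinearGroup (Fin 2) F) := by
  have h1 := h.ht
  have h2 := h.e2
  rw [← h.hP]
  refine Zas.recog (o := ((1 : G) : G ⧸ 𝐍(P))) (e := e) ⟨by rw [h.hP, h1],
    isCyclic_of_card_prime (h.hP ▸ h.hp),
    fun u hu u1 => (H7.PCl.cent_eq_of_mem h.hp h.hP hu u1).trans hC, by rw [h.card_N hC, h1],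
    stabilizer_quotient _, fun a => exists_smul_eq G _ a, ?_⟩ h.simple h.not_comm (by omega)
  rw [← index_eq_card, h.hn]
  omega

end Cfsg.Agent.P12
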