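/-
P12, chapter FIN, part 2: the simple groups with fewer than `p ^ 2` Sylow subgroups.
-/
import Cfsg.Agent.P12.Fin1
import Cfsg.Agent.H2.Sig3A
import Cfsg.Agent.H9.SylowNum
import Cfsg.Agent.L.PiSep

set_option autoImplicit false
set_option linter.unusedSectionVars false

namespace Cfsg.Agent.P12

open Subgroup Cfsg Cfsg.Agent Cfsg.Agent.FT
open scoped IsMulCommutative commutatorElement

universe u

variable {G : Type u} [Group G] [Finite G] {p : ℕ}

theorem der_le_of_relIndex (hp : p.Prime) {P Q : Subgroup G} (hP : IsPGroup p P)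
    (h : Q.relIndex P < p ^ 2) : ⁅P, P⁆ ≤ Q := by
  have := Fact.mk hp
  obtain ⟨k, hk⟩ := hP.index (Q.subgroupOf P)
  change Q.relIndex P = _ at hk
  rw [hk, Nat.pow_lt_pow_iff_right hp.one_lt] at h
  rw [← map_subtype_der, map_le_iff_le_comap]
  change _ ≤ Q.subgroupOf P
  rcases k with _ | _ | k
  · rw [index_eq_one.1 hk]; exact le_top
  · rw [zero_add, pow_one] at hk
    obtain ⟨n, hn⟩ := IsPGroup.iff_card.1 hP
    have h1 : n ≠ 0 := by
      rintro rfl
      have := index_dvd_card (Q.subgroupOf P)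
      rw [hn, show (Q.subgroupOf P).index = p from hk] at this
      exact hp.not_dvd_one this
    have : (Q.subgroupOf P).Normal := normal_of_index_eq_minFac_card (by
      rw [hn, hp.pow_minFac h1]; exact hk)
    have := isCyclic_of_prime_card (α := P ⧸ Q.subgroupOf P) hk
    exact Normal.quotient_commutative_iff_commutator_le.1 IsCyclic.isMulCommutative
  · omega

theorem norm_ne_top (hs : IsSimpleGroup G) (hna : ¬ IsMulCommutative G) (hp : p.Prime)
    {P : Subgroup G} (hP : IsPGroup p P) (h0 : P ≠ ⊥) : 𝐍(P) ≠ ⊤ := fun h => by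
  have := Fact.mk hp
  rcases hs.eq_bot_or_eq_top_of_normal P (normalizer_eq_top_iff.1 h) with rfl | rfl
  · exact h0 rfl
  · have := (hP.of_equiv topEquiv).isNilpotent
    exact hna ⟨⟨IsSimpleGroup.comm_iff_isSolvable.2 inferInstance⟩⟩

theorem exists_hyp [hp : Fact p.Prime] (hs : IsSimpleGroup G) (hna : ¬ IsMulCommutative G)
    (hd : p ∣ Nat.card G) (hn : Nat.card (Sylow p G) < p ^ 2) :
    ∃ (P : Subgroup G) (r e t : ℕ), Hyp P p r e t ∧ Nat.card (Sylow p G) = 1 + r * p := by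
  obtain ⟨S⟩ : Nonempty (Sylow p G) := inferInstance
  set P : Subgroup G := ↑S with hP
  have hS := isSyl_top_coe hp.out S
  have h0 : P ≠ ⊥ := S.ne_bot_of_dvd_card hd
  have hN := norm_ne_top hs hna hp.out S.isPGroup' h0
  have hi : (𝐍(P)).index = Nat.card (Sylow p G) := S.card_eq_index_normalizer.symm
  have key : ∀ g : G, (P ^ᵍ g).relIndex P < p ^ 2 := fun g => by
    have a1 : P ⊓ 𝐍(P ^ᵍ g) = P ⊓ P ^ᵍ g := le_antisymm (le_inf inf_le_left
      (((hS.conj_of_mem_norm (by rw [norm_top]; trivial)).of_le le_normalizer le_top).le_of_normal hp.out le_rfl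
        (S.isPGroup'.to_le inf_le_left) inf_le_right)) (inf_le_inf_left _ le_normalizer)
    rw [← inf_relIndex_left, ← a1, inf_relIndex_left]
    refine lt_of_le_of_lt ?_ hn
    rw [← hi, ← index_conj _ g, ← norm_conj, ← relIndex_top_right]
    exact relIndex_le_of_le_right le_top (by simp [index_ne_zero_of_finite])
  have hab : IsMulCommutative P := by
    rw [isMulComm_iff_comm_eq_bot]
    have a1 : ⁅P, P⁆ ≤ P.normalCore := fun x hx g => by
      simpa using mem_conj.1 (der_le_of_relIndex hp.out S.isPGroup' (key g⁻¹) hx)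
    rcases hs.eq_bot_or_eq_top_of_normal P.normalCore inferInstance with h | h
    · exact le_bot_iff.1 (h ▸ a1)
    · exact absurd (top_le_iff.1 (h ▸ P.normalCore_le.trans le_normalizer)) hN
  have hc : 𝐨(P) = p := by
    obtain ⟨g, -, hg⟩ := H2.exists_inf_conj_eq (H := ⊤) le_top S.isPGroup' hS.3 hab
    have a1 : P ⊓ P ^ᵍ g = ⊥ := by
      rcases hs.eq_bot_or_eq_top_of_normal _ (normal_iff_top_le.2 hg) with h | h
      · exact h
      · exact absurd (top_le_iff.1 (h ▸ inf_le_left.trans le_normalizer)) hN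
    have a2 := key g
    rw [← inf_relIndex_left, a1, relIndex_bot_left] at a2
    obtain ⟨k, hk⟩ := IsPGroup.iff_card.1 S.isPGroup'
    rw [hk, Nat.pow_lt_pow_iff_right hp.out.one_lt] at a2
    have a3 : k ≠ 0 := by rintro rfl; exact h0 (card_eq_one.1 hk)
    rw [hk, show k = 1 by omega, pow_one]
  obtain ⟨r, hr⟩ := (Nat.modEq_iff_dvd' Nat.card_pos).1 (card_sylow_modEq_one p G).symm
  have hpos : 0 < Nat.card (Sylow p G) := Nat.card_pos
  have h1 : Nat.card (Sylow p G) = 1 + r * p := by rw [mul_comm]; omega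
  obtain ⟨t, ht⟩ := H7.PCl.relIndex_dvd_pred hp.out hc
  have h2 := hp.out.two_le
  refine ⟨P, r, _, t, ⟨hp.out, hs, hc, S.not_dvd_index, hi.trans h1, ?_, ?_, rfl, ?_, ?_⟩, h1⟩
  · by_contra c
    exact hN (index_eq_one.1 (by rw [hi, h1, show r = 0 by omega]; simp))
  · by_contra c
    have := Nat.mul_le_mul_right p (not_lt.1 c)
    rw [h1, sq] at hn
    omega
  · by_contra c
    have a1 : (𝐂(P)).relIndex 𝐍(P) = 1 := by
      have : (𝐂(P)).relIndex 𝐍(P) ≠ 0 := by rintro e; rw [e] at ht; omega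
      omega
    obtain ⟨⟨x, hx⟩, x1⟩ := ne_bot_iff_exists_ne_one.1 h0
    exact x1 (Subtype.ext (eq_one_of_syl hp.out hs hna hS hab hx fun n hn =>
      mem_cent.1 (relIndex_eq_one.1 a1 hn) x hx))
  · rw [mul_comm]; omega

theorem eac_psl (hs : IsSimpleGroup G) (hna : ¬ IsMulCommutative G) (he : L.EAC G)
    (h2 : 2 ∣ Nat.card G) : ∃ n : ℕ, 2 ≤ n ∧ Nat.card G = 2 ^ n * (2 ^ n - 1) * (2 ^ n + 1) ∧
      ∃ (F : Type) (_ : Field F) (_ : Fintype F), Fintype.card F = 2 ^ n ∧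
        Nonempty (G ≃* Matrix.ProjectiveSpecialLinearGroup (Fin 2) F) := by
  classical
  have : Fact (Nat.Prime 2) := ⟨Nat.prime_two⟩
  obtain ⟨S, hS⟩ := exists_isSyl (G := G) Nat.prime_two ⊤
  have h0 := hS.ne_bot Nat.prime_two (by rwa [card_top])
  obtain ⟨t, ht, t2⟩ := exists_mem_orderOf_eq_prime Nat.prime_two
    (prime_dvd_card_of_isPGroup Nat.prime_two (hS.pgrp.to_le inf_le_left)
      (center_ne_bot (isNilpotent_of_isPGroup Nat.prime_two hS.pgrp) h0))
  have t1 : t ≠ 1 := by rintro rfl; simp at t2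
  have tt : t * t = 1 := by rw [← sq, ← t2, pow_orderOf_eq_one]
  have hSC : S ≤ 𝐂[t] := mem_cent_iff_cent1.1 ht.2
  obtain ⟨n, hn, -, h3, -, h4⟩ := he.exists_galoisField_of_not_isSolvable t1 tt
    (fun hn => by
      rcases hs.eq_bot_or_eq_top_of_normal _ hn with e | e
      · exact t1 (mem_bot.1 (e ▸ self_mem_cent1 t))
      · refine norm_ne_top hs hna Nat.prime_two (isPGroup_of_card_prime
          ((Nat.card_zpowers t).trans t2)) (by simpa using t1) (top_le_iff.1 ?_)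
        rw [← e, ← cent_zpowers]; exact cent_le_norm _)
    (fun e => by
      have a1 : zpowers t = S := H1.eq_of_le_of_card_le (zpowers_le.2 ht.1)
        (by rw [Nat.card_zpowers, t2, ← e]; exact card_le_of_le hSC)
      refine t1 (eq_one_of_syl Nat.prime_two hs hna hS (a1 ▸ inferInstance) ht.1 fun g hg => ?_)
      have a2 := (mem_normalizer_iff.1 hg t).1 ht.1
      rw [← a1, mem_zpowers_iff_mem_range_orderOf, t2] at a2
      simp only [Finset.mem_image, Finset.mem_range] at a2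
      obtain ⟨i, hi, a3⟩ := a2
      interval_cases i
      · exact absurd (by simpa using a3.symm) t1
      · exact mem_cent1.1 (mem_cent1_iff_conj.2 (by simpa using a3.symm)))
  have := Fintype.ofFinite (GaloisField 2 n)
  exact ⟨n, hn, h3, GaloisField 2 n, inferInstance, this, by
    rw [← Nat.card_eq_fintype_card, GaloisField.card 2 n (by omega)], h4⟩

theorem cube_inj {a b : ℕ} (h : a * (a + 1) * (a + 2) = b * (b + 1) * (b + 2)) : a = b := by
  rcases lt_trichotomy a b with c | c | c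
  · have : a * (a + 1) * (a + 2) < b * (b + 1) * (b + 2) := by gcongr
    omega
  · exact c
  · have : b * (b + 1) * (b + 2) < a * (a + 1) * (a + 2) := by gcongr
    omega

/-- The four cases, with the Sylow numbers. -/
theorem simple_cases (hM : MainStmt.{u}) (hR : RecStmt.{u}) [hp : Fact p.Prime]
    (hs : IsSimpleGroup G) (hna : ¬ IsMulCommutative G) (hd : p ∣ Nat.card G)
    (hn : Nat.card (Sylow p G) < p ^ 2) :
    (3 < p ∧ Nat.card (Sylow p G) = 1 + p ∧ ∃ (F : Type) (_ : Field F) (_ : Fintype F),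
      Fintype.card F = p ∧ Nonempty (G ≃* Matrix.ProjectiveSpecialLinearGroup (Fin 2) F)) ∨
    (p = 13 ∧ Nat.card (Sylow p G) = 144 ∧ ∃ (F : Type) (_ : Field F) (_ : Fintype F),
      Fintype.card F = 3 ∧ Nonempty (G ≃* Matrix.ProjectiveSpecialLinearGroup (Fin 3) F)) ∨
    (3 < p ∧ (∃ k : ℕ, p = 2 ^ k + 1) ∧ 2 * Nat.card (Sylow p G) = 2 + (p - 3) * p ∧
      ∃ (F : Type) (_ : Field F) (_ : Fintype F), Fintype.card F = p - 1 ∧
        Nonempty (G ≃* Matrix.ProjectiveSpecialLinearGroup (Fin 2) F)) ∨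
    (3 < p ∧ (∃ k : ℕ, p + 1 = 2 ^ k) ∧ 2 * Nat.card (Sylow p G) = 2 + (p + 3) * p ∧
      ∃ (F : Type) (_ : Field F) (_ : Fintype F), Fintype.card F = p + 1 ∧
        Nonempty (G ≃* Matrix.ProjectiveSpecialLinearGroup (Fin 2) F)) := by
  obtain ⟨P, r, e, t, h, hr⟩ := exists_hyp hs hna hd hn
  obtain ⟨hC, h1⟩ := hM G P p r e t h
  have hG := h.card_G hC
  have r1 := h.r1
  have e2 := h.e2
  have ht := h.ht
  rcases h1 with ⟨rfl, rfl⟩ | ⟨rfl, h1, h2⟩ | ⟨rfl, h1, h3, h2⟩ | ⟨rfl, rfl, rfl, h2⟩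
  · exact Or.inl ⟨by omega, by omega, h.psl2 hC⟩
  · obtain ⟨n, hn, a1, F, i1, i2, a2, a3⟩ := eac_psl hs hna h2
      (by rw [hG, mul_assoc]; exact Dvd.intro _ rfl)
    obtain ⟨q, hq⟩ : ∃ q, 2 ^ n = q + 1 := ⟨2 ^ n - 1, by have := Nat.one_le_two_pow (n := n); omega⟩
    have a4 : q = 2 * r + 1 := cube_inj (by
      rw [hq, Nat.add_sub_cancel, hG, ← h1] at a1
      linarith)
    refine Or.inr (Or.inr (Or.inl ⟨by omega, ⟨n, by omega⟩, ?_, F, i1, i2, by omega, a3⟩))
    rw [hr, show p - 3 = 2 * r by omega]; ring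
  · obtain ⟨n, hn, a1, F, i1, i2, a2, a3⟩ := eac_psl hs hna h2
      (by rw [hG, mul_assoc]; exact Dvd.intro _ rfl)
    obtain ⟨q, hq⟩ : ∃ q, 2 ^ n = q + 1 := ⟨2 ^ n - 1, by have := Nat.one_le_two_pow (n := n); omega⟩
    have a5 : 2 * (1 + r * p) = 2 + (p + 3) * p := by rw [← h1]; ring
    have a4 : q = p := cube_inj (by
      rw [hq, Nat.add_sub_cancel, hG, mul_comm 2, mul_assoc, a5] at a1
      linarith)
    exact Or.inr (Or.inr (Or.inr ⟨h3, ⟨n, by omega⟩, by rw [hr, a5], F, i1, i2, by omega, a3⟩))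
  · exact Or.inr (Or.inl ⟨rfl, hr, ZMod 3, inferInstance, inferInstance, rfl, hR G P t h hC h2⟩)

theorem exists_card_sylow [hp : Fact p.Prime] (hs : IsSimpleGroup G) (hna : ¬ IsMulCommutative G)
    (hd : p ∣ Nat.card G) : ∃ j, 2 ≤ j ∧ Nat.card (Sylow p G) * (p * j) = Nat.card G := by
  obtain ⟨S⟩ : Nonempty (Sylow p G) := inferInstance
  have h0 : (S : Subgroup G) ≠ ⊥ := S.ne_bot_of_dvd_card hd
  have h1 := prime_dvd_card_of_isPGroup hp.out S.isPGroup' h0
  obtain ⟨j, hj⟩ := h1.trans (FT.card_dvd_of_le (le_norm_self (S : Subgroup G)))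
  refine ⟨j, ?_, by rw [← hj, S.card_eq_index_normalizer]; exact index_mul_card _⟩
  rcases j with _ | _ | j
  · exact absurd hj Nat.card_pos.ne'
  · exfalso
    rw [zero_add, mul_one] at hj
    have a1 := isMulComm_of_isCyclic (isCyclic_of_card_prime (hj ▸ hp.out))
    obtain ⟨⟨x, hx⟩, x1⟩ := ne_bot_iff_exists_ne_one.1 h0
    exact x1 (Subtype.ext (eq_one_of_syl hp.out hs hna (isSyl_top_coe hp.out S)
      (isMulComm_of_le (le_norm_self _) a1) hx fun n hn =>
        H7.CA.comm_iff.1 a1 x (le_norm_self _ hx) n hn))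
  · omega

theorem card_le_PSL2 {F : Type} [Field F] [Fintype F]
    (e : G ≃* Matrix.ProjectiveSpecialLinearGroup (Fin 2) F) :
    Nat.card G ≤ Fintype.card F * (Fintype.card F - 1) * (Fintype.card F + 1) := by
  rw [Nat.card_congr e.toEquiv, ← Nat.card_eq_fintype_card, ← L.card_SL2]
  exact Nat.le_of_dvd Nat.card_pos (card_quotient_dvd_card _)

open Matrix in
theorem card_SL3 {F : Type} [Field F] [Fintype F] (hF : Fintype.card F = 3) :
    Nat.card (SpecialLinearGroup (Fin 3) F) = 5616 := by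
  classical
  have h1 := card_GL_field (𝔽 := F) 3
  have h2 := (GeneralLinearGroup.det : GL (Fin 3) F →* Fˣ).ker.card_mul_index
  have h0 : (Matrix.SpecialLinearGroup.toGL : SpecialLinearGroup (Fin 3) F →* GL (Fin 3) F).range =
      (GeneralLinearGroup.det : GL (Fin 3) F →* Fˣ).ker :=
    SetLike.coe_injective Matrix.SpecialLinearGroup.range_toGL
  rw [index_ker, MonoidHom.range_eq_top.2 GeneralLinearGroup.det_surjective, card_top,
    Nat.card_units, h1, ← h0,
    ← Nat.card_congr (MonoidHom.ofInjective Matrix.SpecialLinearGroup.toGL_injective).toEquiv,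
    Nat.card_eq_fintype_card (α := F), hF] at h2
  simp only [Fin.prod_univ_three, Fin.val_zero, Fin.val_one, Fin.val_two] at h2
  omega

theorem s4340 (hM : MainStmt.{u}) (hR : RecStmt.{u}) {S : Type u} [Group S] [Finite S]
    [hs : IsSimpleGroup S] (hS : ¬ IsMulCommutative S) (p : ℕ) [hpp : Fact p.Prime]
    (hp : p ∣ Nat.card S) :
    Nat.card (Sylow p S) < p ^ 2 ↔
      ((∃ (F : Type) (_ : Field F) (_ : Fintype F), Fintype.card F = p ∧
          Nonempty (S ≃* Matrix.ProjectiveSpecialLinearGroup (Fin 2) F)) ∨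
       (p = 13 ∧ ∃ (F : Type) (_ : Field F) (_ : Fintype F), Fintype.card F = 3 ∧
          Nonempty (S ≃* Matrix.ProjectiveSpecialLinearGroup (Fin 3) F)) ∨
       (3 < p ∧ (∃ k : ℕ, p = 2 ^ k + 1) ∧ ∃ (F : Type) (_ : Field F) (_ : Fintype F), Fintype.card F = p - 1 ∧
          Nonempty (S ≃* Matrix.ProjectiveSpecialLinearGroup (Fin 2) F)) ∨
       (3 < p ∧ (∃ k : ℕ, p + 1 = 2 ^ k) ∧ ∃ (F : Type) (_ : Field F) (_ : Fintype F), Fintype.card F = p + 1 ∧
          Nonempty (S ≃* Matrix.ProjectiveSpecialLinearGroup (Fin 2) F))) := by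
  constructor
  · intro hn
    rcases simple_cases hM hR hs hS hp hn with h | h | h | h
    · exact Or.inl h.2.2
    · exact Or.inr (Or.inl ⟨h.1, h.2.2⟩)
    · exact Or.inr (Or.inr (Or.inl ⟨h.1, h.2.1, h.2.2.2⟩))
    · exact Or.inr (Or.inr (Or.inr ⟨h.1, h.2.1, h.2.2.2⟩))
  obtain ⟨j, hj, e1⟩ := exists_card_sylow hs hS hp
  have h2 := hpp.out.two_le
  have key : ∀ c, Nat.card S ≤ p * c → c < 2 * p ^ 2 → Nat.card (Sylow p S) < p ^ 2 := by
    intro c h3 h4
    rw [← e1, mul_left_comm] at h3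
    have h5 := Nat.le_of_mul_le_mul_left h3 (by omega)
    have h6 := Nat.mul_le_mul_left (Nat.card (Sylow p S)) hj
    omega
  obtain ⟨q, rfl⟩ : ∃ q, p = q + 2 := ⟨p - 2, by omega⟩
  rintro (⟨F, _, _, hF, ⟨e⟩⟩ | ⟨h13, F, _, _, hF, ⟨e⟩⟩ | ⟨h3, -, F, _, _, hF, ⟨e⟩⟩ |
    ⟨h3, -, F, _, _, hF, ⟨e⟩⟩)
  · have := card_le_PSL2 e
    rw [hF, mul_assoc] at this
    exact key _ this (by simp only [Nat.add_succ_sub_one]; nlinarith)
  · have a1 := card_quotient_dvd_card (center (Matrix.SpecialLinearGroup (Fin 3) F))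
    have a2 := card_sylow_modEq_one (q + 2) S
    rw [card_SL3 hF] at a1
    change Nat.card (Matrix.ProjectiveSpecialLinearGroup (Fin 3) F) ∣ _ at a1
    rw [← Nat.card_congr e.toEquiv, ← e1] at a1
    generalize Nat.card (Sylow (q + 2) S) = n at a1 a2 ⊢
    rw [h13] at a1 a2 ⊢
    have a3 : n ∣ 432 := Nat.dvd_of_mul_dvd_mul_right (k := 13) (by norm_num)
      (Dvd.dvd.trans ⟨j, by ring⟩ a1)
    have a4 := Nat.le_of_dvd (by norm_num) a3
    unfold Nat.ModEq at a2
    obtain ⟨c, rfl⟩ : ∃ c, n = 13 * c + 1 := ⟨n / 13, by omega⟩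
    have a5 : c ≤ 33 := by omega
    interval_cases c <;> simp_all
  · have := card_le_PSL2 e
    rw [hF, mul_comm] at this
    exact key _ this (by simp only [Nat.add_succ_sub_one, Nat.add_sub_cancel]; nlinarith)
  · have := card_le_PSL2 e
    rw [hF, mul_comm (q + 2 + 1), mul_assoc] at this
    exact key _ this (by nlinarith)

theorem not_isPSolvable (hp : p.Prime) (hs : IsSimpleGroup G) (hna : ¬ IsMulCommutative G)
    (hd : p ∣ Nat.card G) : ¬ IsPSolvable p G := by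
  rintro ⟨n, H, h0, h1, -, hn, h⟩
  have key : ∀ i : Fin (n + 1), H i = ⊥ := by
    intro i
    induction i using Fin.induction with
    | zero => exact h0
    | succ i ih =>
      refine (hs.eq_bot_or_eq_top_of_normal _ (hn _)).resolve_right fun e => ?_
      have := h i
      rw [ih, e, relIndex_bot_left] at this
      rcases this with ⟨m, hm⟩ | hm
      · exact norm_ne_top hs hna hp (isPGroup_of_card_eq hm) top_ne_bot norm_top
      · rw [card_top] at hm
        exact (Nat.Prime.coprime_iff_not_dvd hp).1 hm.symm hd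
  exact top_ne_bot (h1.symm.trans (key _))

theorem isPSolvable_of_not_dvd (h : ¬ p ∣ Nat.card G) (hp : p.Prime) : IsPSolvable p G :=
  (L.isPSolvable_iff_piSep hp).2 (L.piSep_of_isPiNum_compl
    ((L.isPiNum_compl_singleton_iff hp).2 ((Nat.Prime.coprime_iff_not_dvd hp).2 h).symm))

theorem isPSolvable_of_isPGroup (h : IsPGroup p G) (hp : p.Prime) : IsPSolvable p G := by
  have := Fact.mk hp
  have := h.isNilpotent
  exact L.isPSolvable_of_isSolvable hp

theorem pow_of_partsOne {n : ℕ} (h : H9.PartsOne p n) (h0 : n ≠ 0)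
    (hn : n < p ^ 2) : ∃ q k : ℕ, q.Prime ∧ n = q ^ k := by
  by_cases h1 : n = 1
  · exact ⟨2, 0, Nat.prime_two, h1⟩
  obtain ⟨q, hq, hd⟩ := Nat.exists_prime_and_dvd h1
  refine ⟨q, _, hq, Nat.eq_prime_pow_of_unique_prime_dvd h0 fun {l} hl hl' => ?_⟩
  by_contra hne
  have key : ∀ l : ℕ, l.Prime → l ∣ n → p ≤ l ^ n.factorization l := fun l hl hd => by
    have a1 := Nat.one_lt_pow (hl.factorization_pos_of_dvd h0 hd).ne' hl.one_lt
    have := Nat.le_of_dvd (by omega) ((Nat.modEq_iff_dvd' a1.le).1 (h l hl).symm)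
    omega
  have a1 := Nat.le_of_dvd (Nat.pos_of_ne_zero h0) (Nat.Coprime.mul_dvd_of_dvd_of_dvd
    (Nat.coprime_pow_primes _ _ hl hq hne) (Nat.ordProj_dvd n l) (Nat.ordProj_dvd n q))
  have a2 := Nat.mul_le_mul (key l hl hl') (key q hq hd)
  rw [sq] at hn
  omega

theorem eq_one_of_mul_lt {a b : ℕ} (ha : a ≡ 1 [MOD p]) (hb : b ≡ 1 [MOD p]) (ha0 : 0 < a)
    (hb0 : 0 < b) (h : a * b < p ^ 2) : a = 1 ∨ b = 1 := by
  by_contra c
  push Not at c
  have a1 := Nat.le_of_dvd (by omega) ((Nat.modEq_iff_dvd' ha0).1 ha.symm)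
  have a2 := Nat.le_of_dvd (by omega) ((Nat.modEq_iff_dvd' hb0).1 hb.symm)
  have := Nat.mul_le_mul (show p ≤ a by omega) (show p ≤ b by omega)
  rw [sq] at h
  omega

/-- The conclusion of the reduction to simple groups. -/
def Red (p n : ℕ) (G : Type u) [Group G] : Prop :=
  (IsPSolvable p G ∧ ∃ q k : ℕ, q.Prime ∧ n = q ^ k) ∨ (¬ IsPSolvable p G ∧ n ≠ 1 ∧
    ∃ (S : Type u) (_ : Group S) (_ : Finite S), IsSimpleGroup S ∧ ¬ IsMulCommutative S ∧
      p ∣ Nat.card S ∧ n = Nat.card (Sylow p S))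

theorem Red.of_one {G : Type u} [Group G] (h : Red p 1 G) : IsPSolvable p G :=
  h.elim (·.1) fun h => absurd rfl h.2.1

theorem Red.trans {n : ℕ} {G H : Type u} [Group G] [Group H] (h : Red p n G)
    (e : IsPSolvable p G ↔ IsPSolvable p H) : Red p n H := by
  unfold Red at h ⊢
  rwa [← e]

theorem red (p : ℕ) [hp : Fact p.Prime] (G : Type u) [Group G] [Finite G] :
    Nat.card (Sylow p G) < p ^ 2 → Red p (Nat.card (Sylow p G)) G := by
  refine L.induction_on_card (P := fun G _ _ => Nat.card (Sylow p G) < p ^ 2 →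
    Red p (Nat.card (Sylow p G)) G) G ?_
  intro G _ _ ih hlt0
  obtain ⟨P⟩ : Nonempty (Sylow p G) := inferInstance
  by_cases hc : IsMulCommutative G
  · refine Or.inl ⟨L.isPSolvable_of_isSolvable hp.out, 2, 0, Nat.prime_two, ?_⟩
    rw [P.card_eq_index_normalizer]
    have : normalizer (P : Set G) = ⊤ := normalizer_eq_top (P : Subgroup G)
    simp [this]
  by_cases hs : IsSimpleGroup G
  · by_cases hd : p ∣ Nat.card G
    · refine Or.inr ⟨not_isPSolvable hp.out hs hc hd, ?_, G, _, inferInstance, hs, hc, hd, rfl⟩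
      rw [P.card_eq_index_normalizer, Ne, index_eq_one]
      exact norm_ne_top hs hc hp.out P.isPGroup' (P.ne_bot_of_dvd_card hd)
    · refine Or.inl ⟨isPSolvable_of_not_dvd hd hp.out, 2, 0, Nat.prime_two, ?_⟩
      have : (P : Subgroup G) = ⊥ := ((isSyl_top_coe hp.out P).eq_bot_iff hp.out).2 (by rwa [card_top])
      rw [H9.card_sylow_eq_index P.isPGroup' P.not_dvd_index, this, norm_bot, index_top, pow_zero]
  have : Nontrivial G := by
    by_contra hG
    rw [not_nontrivial_iff_subsingleton] at hG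
    exact hc ⟨⟨fun _ _ => Subsingleton.elim _ _⟩⟩
  obtain ⟨K, hKn, hK1, hK2⟩ : ∃ K : Subgroup G, K.Normal ∧ K ≠ ⊥ ∧ K ≠ ⊤ := by
    by_contra hcon
    push Not at hcon
    exact hs ⟨fun K hK => by
      by_cases h : K = ⊥
      · exact Or.inl h
      · exact Or.inr (hcon K hK h)⟩
  have hK : ∀ A : Subgroup G, A ≤ normalizer (K : Set G) := fun A => by
    rw [normalizer_eq_top]; exact le_top
  by_cases hcop : (P : Subgroup G) ⊓ K = ⊥ ∧ (P : Subgroup G) ⊔ K = ⊤
  · have hKp : ¬ p ∣ Nat.card K := by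
      have := H9.not_dvd_relIndex_sylow_inf K P
      rwa [hcop.1, relIndex_bot_left] at this
    refine Or.inl ⟨L.IsPSolvable.of_normal_of_quotient hp.out K (isPSolvable_of_not_dvd hKp hp.out)
      (isPSolvable_of_isPGroup ?_ hp.out), pow_of_partsOne ?_ Nat.card_pos.ne' hlt0⟩
    · have a1 := P.isPGroup'.map (QuotientGroup.mk' K)
      have a2 : (P : Subgroup G).map (QuotientGroup.mk' K) = ⊤ := by
        rw [← QuotientGroup.range_mk', MonoidHom.range_eq_map, ← hcop.2, Subgroup.map_sup,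
          QuotientGroup.map_mk'_self, sup_bot_eq]
      rw [a2] at a1
      exact a1.of_equiv topEquiv
    have e : Nat.card (Sylow p G) = (centralizer ((P : Subgroup G) : Set G)).relIndex K := by
      rw [H9.card_sylow_eq_index P.isPGroup' P.not_dvd_index, ← relIndex_top_right, ← hcop.2,
        H9.relIndex_sup_of_le le_normalizer (hK _), ← inf_relIndex_left,
        H1.inf_normalizer_eq_inf_centralizer (hK _) hcop.1, inf_relIndex_left]
    rw [e]
    exact H9.partsOne_relIndex_centralizer P.isPGroup' (hK _) hKp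
  obtain ⟨N, hN⟩ : ∃ N : Subgroup G, N = ((P : Subgroup G) ⊔ K) ⊓
    normalizer (((P : Subgroup G) ⊓ K : Subgroup G) : Set G) := ⟨_, rfl⟩
  have hPN : (P : Subgroup G) ≤ N := by
    rw [hN]
    exact le_inf le_sup_left (H1.le_normalizer_inf le_normalizer (hK _))
  have hn : (((P : Subgroup G) ⊓ K).subgroupOf N).Normal :=
    normal_subgroupOf_of_le_normalizer (hN ▸ inf_le_right)
  have e := H9.card_sylow_eq_mul p K P
  rw [← hN, ← H9.card_sylow_quotient_of_le (((P : Subgroup G) ⊓ K).subgroupOf N) (P.subtype hPN)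
    ((comap_mono inf_le_left).trans le_normalizer)] at e
  have hlt : Nat.card (N ⧸ ((P : Subgroup G) ⊓ K).subgroupOf N) < Nat.card G := by
    by_cases h1 : (P : Subgroup G) ⊓ K = ⊥
    · refine lt_of_le_of_lt (Nat.le_of_dvd Nat.card_pos (card_quotient_dvd_card _))
        (L.card_lt_of_ne_top ?_)
      intro h2
      exact hcop ⟨h1, top_le_iff.1 (h2 ▸ hN ▸ inf_le_left)⟩
    · refine lt_of_lt_of_le (L.card_quotient_lt _ ?_) (card_le_card_group N)
      intro h2
      rw [subgroupOf_eq_bot] at h2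
      exact h1 (h2.eq_bot_of_le (inf_le_left.trans hPN))
  have i1 := ih (G ⧸ K) (L.card_quotient_lt K hK1)
  have i2 := ih K (L.card_lt_of_ne_top hK2)
  have i3 := ih _ hlt
  have m1 := card_sylow_modEq_one p (G ⧸ K)
  have m2 := card_sylow_modEq_one p K
  have m3 := card_sylow_modEq_one p (N ⧸ ((P : Subgroup G) ⊓ K).subgroupOf N)
  have z1 : 0 < Nat.card (Sylow p (G ⧸ K)) := Nat.card_pos
  have z2 : 0 < Nat.card (Sylow p K) := Nat.card_pos
  have z3 : 0 < Nat.card (Sylow p (N ⧸ ((P : Subgroup G) ⊓ K).subgroupOf N)) := Nat.card_pos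
  have h1 : 1 < p ^ 2 := Nat.one_lt_pow two_ne_zero hp.out.one_lt
  have s1 := L.IsPSolvable.of_normal_of_quotient hp.out K
  rw [e] at hlt0 ⊢
  generalize Nat.card (Sylow p (G ⧸ K)) = a at *
  generalize Nat.card (Sylow p K) = b at *
  generalize Nat.card (Sylow p (N ⧸ ((P : Subgroup G) ⊓ K).subgroupOf N)) = c at *
  rcases eq_one_of_mul_lt (m1.mul m2) m3 (Nat.mul_pos z1 z2) z3 hlt0 with h | rfl
  · obtain ⟨rfl, rfl⟩ := mul_eq_one.1 h
    rw [one_mul, one_mul] at hlt0 ⊢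
    have := s1 (i2 h1).of_one (i1 h1).of_one
    exact (i3 hlt0).trans (iff_of_true
      (L.IsPSolvable.quotient hp.out (L.IsPSolvable.subgroup hp.out this N) _) this)
  rw [mul_one] at hlt0 ⊢
  rcases eq_one_of_mul_lt m1 m2 z1 z2 hlt0 with rfl | rfl
  · rw [one_mul] at hlt0 ⊢
    exact (i2 hlt0).trans ⟨fun h => s1 h (i1 h1).of_one, fun h => L.IsPSolvable.subgroup hp.out h K⟩
  · rw [mul_one] at hlt0 ⊢
    exact (i1 hlt0).trans ⟨s1 (i2 h1).of_one, fun h => L.IsPSolvable.quotient hp.out h K⟩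

theorem s4338 (hM : MainStmt.{u}) (hR : RecStmt.{u}) {G : Type u} [Group G] [Finite G]
    (p : ℕ) [hp : Fact p.Prime] (hn : Nat.card (Sylow p G) < p ^ 2) :
    (∃ q k : ℕ, q.Prime ∧ Nat.card (Sylow p G) = q ^ k) ∨
    (p = 13 ∧ Nat.card (Sylow p G) = 144) ∨
    (p ≠ 2 ∧ (¬ ∃ k : ℕ, p + 1 = 2 ^ k) ∧ Nat.card (Sylow p G) = 1 + p) ∨
    (3 < p ∧ (∃ k : ℕ, p = 2 ^ k + 1) ∧ 2 * Nat.card (Sylow p G) = 2 + (p - 3) * p) ∨
    (3 < p ∧ (∃ k : ℕ, p + 1 = 2 ^ k) ∧ 2 * Nat.card (Sylow p G) = 2 + (p + 3) * p) := by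
  rcases red p G hn with h | ⟨-, -, S, _, _, hs, hna, hd, e⟩
  · exact Or.inl h.2
  rw [e] at hn ⊢
  rcases simple_cases hM hR hs hna hd hn with h | h | h | h
  · by_cases c : ∃ k : ℕ, p + 1 = 2 ^ k
    · obtain ⟨k, hk⟩ := c
      exact Or.inl ⟨2, k, Nat.prime_two, by omega⟩
    · exact Or.inr (Or.inr (Or.inl ⟨by omega, c, h.2.1⟩))
  · exact Or.inr (Or.inl ⟨h.1, h.2.1⟩)
  · exact Or.inr (Or.inr (Or.inr (Or.inl ⟨h.1, h.2.1, h.2.2.1⟩)))
  · exact Or.inr (Or.inr (Or.inr (Or.inr ⟨h.1, h.2.1, h.2.2.1⟩)))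

theorem s4339 (hM : MainStmt.{u}) (hR : RecStmt.{u}) {G : Type u} [Group G] [Finite G]
    (p : ℕ) [hpp : Fact p.Prime] (hp : ¬ (3 < p ∧ ∃ k : ℕ, p + 1 = 2 ^ k))
    (hn : Nat.card (Sylow p G) < p ^ 2) :
    Cfsg.IsPSolvable p G ↔ ∃ q k : ℕ, q.Prime ∧ Nat.card (Sylow p G) = q ^ k := by
  rcases red p G hn with h | ⟨h0, -, S, _, _, hs, hna, hd, e⟩
  · exact iff_of_true h.1 h.2
  refine iff_of_false h0 ?_
  rintro ⟨q, k, hq, hk⟩
  rw [e] at hn hk
  have key : ∀ l : ℕ, l.Prime → l ∣ Nat.card (Sylow p S) → l = q := fun l hl h =>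
    (Nat.prime_dvd_prime_iff_eq hl hq).1 (hl.dvd_of_dvd_pow (hk ▸ h))
  rcases simple_cases hM hR hs hna hd hn with ⟨h1, h2, -⟩ | ⟨-, h2, -⟩ | ⟨h1, ⟨j, hj⟩, h2, -⟩ | h
  · have := Nat.odd_iff.1 (hpp.out.odd_of_ne_two (by omega))
    obtain rfl := key 2 Nat.prime_two (by omega)
    exact hp ⟨h1, k, by omega⟩
  · have a1 := key 2 Nat.prime_two (by omega)
    have a2 := key 3 Nat.prime_three (by omega)
    omega
  · obtain ⟨i, rfl⟩ : ∃ i, j = i + 2 := ⟨j - 2, by
      rcases j with _ | _ | j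
      · omega
      · omega
      · simp⟩
    obtain ⟨c, hc⟩ : ∃ c, 2 ^ i = c + 1 := ⟨2 ^ i - 1, by have := Nat.one_le_two_pow (n := i); omega⟩
    rw [pow_add, hc] at hj
    have a1 : Nat.card (Sylow p S) = 2 * (c + 1) * (4 * c + 3) := by
      generalize Nat.card (Sylow p S) = n at h2
      rw [hj, show (c + 1) * 2 ^ 2 + 1 - 3 = 4 * c + 2 by omega] at h2
      linarith
    obtain ⟨l, hl, hl'⟩ := Nat.exists_prime_and_dvd (show 4 * c + 3 ≠ 1 by omega)
    have a2 := key 2 Nat.prime_two (by rw [a1, mul_assoc]; exact Dvd.intro _ rfl)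
    have a3 := key l hl (a1 ▸ hl'.mul_left _)
    rw [a3, ← a2] at hl'
    omega
  · exact hp ⟨h.1, h.2.1⟩

end Cfsg.Agent.P12
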